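import Mathlib
import Groth.Prelude.Def_W4stkremschemesLRS

/-! helper8: factorisation through a closed immersion of locally ringed spaces (for S9507).
Part 1: the topological factorisation and elementary sheaf helpers. -/

set_option autoImplicit false

universe u

open CategoryTheory TopologicalSpace Opposite AlgebraicGeometry

namespace Groth.Agent.H8.LRSFac

/-- restriction twice. -/
theorem res_res {T : TopCat.{u}} (P : TopCat.Presheaf CommRingCat.{u} T) {U V W : Opens T}
    (h₁ : W ≤ V) (h₂ : V ≤ U) (s : P.obj (op U)) :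
    P.map (homOfLE h₁).op (P.map (homOfLE h₂).op s) = P.map (homOfLE (h₁.trans h₂)).op s := by
  rw [← CommRingCat.comp_apply, ← P.map_comp]
  rfl

theorem res_self {T : TopCat.{u}} (P : TopCat.Presheaf CommRingCat.{u} T) {U : Opens T}
    (h : U ≤ U) (s : P.obj (op U)) : P.map (homOfLE h).op s = s := by
  have : (homOfLE h).op = 𝟙 (op U) := rfl
  rw [this, P.map_id]
  rfl

/-- naturality of the comorphism, elementwise. -/
theorem nat_c {A B : LocallyRingedSpace.{u}} (φ : A ⟶ B) {W W' : Opens B.toTopCat} (h : W' ≤ W)
    (s : B.presheaf.obj (op W)) :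
    φ.c.app (op W') (B.presheaf.map (homOfLE h).op s) =
      A.presheaf.map (homOfLE ((Opens.map φ.base).monotone h)).op (φ.c.app (op W) s) := by
  have := ConcreteCategory.congr_hom (φ.c.naturality (homOfLE h).op) s
  exact this

variable {Z X Y : LocallyRingedSpace.{u}} (i : Z ⟶ X) (f : Y ⟶ X)

/-- the image of `f` lies in the image of `i`. -/
theorem range_subset (hcl : IsClosed (Set.range i.base))
    (hker : ∀ (U : Opens X.toTopCat) (s : X.presheaf.obj (op U)),
        i.c.app (op U) s = 0 → f.c.app (op U) s = 0) (y : Y.toTopCat) :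
    f.base y ∈ Set.range i.base := by
  by_contra hy
  let U : Opens X.toTopCat := ⟨(Set.range i.base)ᶜ, hcl.isOpen_compl⟩
  have hU : (Opens.map i.base).obj U = ⊥ := by
    ext z
    simp only [Opens.map_coe, Set.mem_preimage, SetLike.mem_coe, Opens.coe_bot,
      Set.mem_empty_iff_false, iff_false]
    intro hz
    exact hz ⟨z, rfl⟩
  have hsub : Subsingleton (Z.presheaf.obj (op ((Opens.map i.base).obj U))) :=
    CommRingCat.subsingleton_of_isTerminal (Z.sheaf.isTerminalOfEqEmpty hU)
  have h0 : i.c.app (op U) 1 = 0 := @Subsingleton.elim _ hsub _ _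
  have h1 := hker U 1 h0
  rw [map_one] at h1
  have hyU : y ∈ (Opens.map f.base).obj U := hy
  have h2 := congrArg (Y.presheaf.germ _ y hyU) h1
  rw [map_one, map_zero] at h2
  exact one_ne_zero h2

end Groth.Agent.H8.LRSFac
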