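import Mathlib
import Groth.Agent.Lib.Helper8.LRSFac.Base

/-! helper8: factorisation through a closed immersion of locally ringed spaces (for S9507).
Part 2: the functional relation defining the comorphism of the factorisation. -/

set_option autoImplicit false

universe u

open CategoryTheory TopologicalSpace Opposite AlgebraicGeometry

namespace Groth.Agent.H8.LRSFac

/-- the data: a closed immersion `i`, a morphism `f` killing the kernel of `i`, and the continuous
factorisation of `f` through `i`. -/
structure Data {Z X Y : LocallyRingedSpace.{u}} (i : Z ⟶ X) (f : Y ⟶ X) where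
  gB : Y.toTopCat ⟶ Z.toTopCat
  hg : ∀ y, i.base (gB y) = f.base y
  hemb : Topology.IsClosedEmbedding i.base
  hsurj : TopCat.Presheaf.IsLocallySurjective i.c
  hker : ∀ (U : Opens X.toTopCat) (s : X.presheaf.obj (op U)),
    i.c.app (op U) s = 0 → f.c.app (op U) s = 0

namespace Data

variable {Z X Y : LocallyRingedSpace.{u}} {i : Z ⟶ X} {f : Y ⟶ X} (D : Data i f)

include D in
theorem le_pre {W : Opens X.toTopCat} {V : Opens Z.toTopCat}
    (hWV : (Opens.map i.base).obj W ≤ V) :
    (Opens.map f.base).obj W ≤ (Opens.map D.gB).obj V := by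
  intro y hy
  have h1 : D.gB y ∈ (Opens.map i.base).obj W := by
    show i.base (D.gB y) ∈ W
    rw [D.hg]
    exact hy
  exact hWV h1

include D in
theorem pre_le (W : Opens X.toTopCat) :
    (Opens.map D.gB).obj ((Opens.map i.base).obj W) ≤ (Opens.map f.base).obj W := by
  intro y hy
  have h1 : i.base (D.gB y) ∈ W := hy
  rw [D.hg] at h1
  exact h1

/-- the largest open of `X` with preimage `V`. -/
def hull (V : Opens Z.toTopCat) : Opens X.toTopCat :=
  ⟨(i.base '' ((V : Set Z.toTopCat)ᶜ))ᶜ,
    (D.hemb.isClosedMap _ V.isOpen.isClosed_compl).isOpen_compl⟩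

theorem mem_hull (V : Opens Z.toTopCat) (z : Z.toTopCat) : i.base z ∈ D.hull V ↔ z ∈ V := by
  constructor
  · intro h
    by_contra hz
    exact h ⟨z, hz, rfl⟩
  · rintro h ⟨z', hz', e⟩
    exact hz' (D.hemb.injective e ▸ h)

theorem map_hull_le (V : Opens Z.toTopCat) : (Opens.map i.base).obj (D.hull V) ≤ V :=
  fun z hz => (D.mem_hull V z).1 hz

include D in
/-- local lifts exist. -/
theorem exists_lift (V : Opens Z.toTopCat) (t : Z.presheaf.obj (op V)) (z : Z.toTopCat)
    (hz : z ∈ V) :
    ∃ (W : Opens X.toTopCat) (_ : i.base z ∈ W) (hWV : (Opens.map i.base).obj W ≤ V)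
      (s : X.presheaf.obj (op W)), i.c.app (op W) s = Z.presheaf.map (homOfLE hWV).op t := by
  obtain ⟨W, hWU, ⟨s, hs⟩, hzW⟩ := (TopCat.Presheaf.isLocallySurjective_iff i.c).1 D.hsurj
    (D.hull V) (Z.presheaf.map (homOfLE (D.map_hull_le V)).op t) (i.base z)
    ((D.mem_hull V z).2 hz)
  refine ⟨W, hzW, ((Opens.map i.base).monotone hWU).trans (D.map_hull_le V), s, ?_⟩
  rw [hs]
  exact res_res Z.presheaf ((Opens.map i.base).monotone hWU) (D.map_hull_le V) t

include D in
/-- two local sections with the same image in `O_Z` have the same image in `O_Y`. -/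
theorem agree {W W' W'' : Opens X.toTopCat} (h : W'' ≤ W) (h' : W'' ≤ W')
    (s : X.presheaf.obj (op W)) (s' : X.presheaf.obj (op W'))
    (e : Z.presheaf.map (homOfLE ((Opens.map i.base).monotone h)).op (i.c.app (op W) s) =
      Z.presheaf.map (homOfLE ((Opens.map i.base).monotone h')).op (i.c.app (op W') s')) :
    Y.presheaf.map (homOfLE ((Opens.map f.base).monotone h)).op (f.c.app (op W) s) =
      Y.presheaf.map (homOfLE ((Opens.map f.base).monotone h')).op (f.c.app (op W') s') := by
  rw [← nat_c i h s, ← nat_c i h' s'] at e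
  rw [← nat_c f h s, ← nat_c f h' s']
  have h0 : i.c.app (op W'') (X.presheaf.map (homOfLE h).op s - X.presheaf.map (homOfLE h').op s')
      = 0 := by
    rw [map_sub, e, sub_self]
  have h1 := D.hker W'' _ h0
  rw [map_sub, sub_eq_zero] at h1
  exact h1

/-- the relation: `h` is locally `f♯` of lifts of `t`. -/
def Rel (V : Opens Z.toTopCat) (t : Z.presheaf.obj (op V))
    (h : Y.presheaf.obj (op ((Opens.map D.gB).obj V))) : Prop :=
  ∀ z ∈ V, ∃ (W : Opens X.toTopCat) (_ : i.base z ∈ W) (hWV : (Opens.map i.base).obj W ≤ V)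
    (s : X.presheaf.obj (op W)), i.c.app (op W) s = Z.presheaf.map (homOfLE hWV).op t ∧
      Y.presheaf.map (homOfLE (D.le_pre hWV)).op h = f.c.app (op W) s

end Data

end Groth.Agent.H8.LRSFac
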