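import Mathlib
import Groth.Agent.Lib.Helper8.LRSFac.Rel

/-! helper8: factorisation through a closed immersion of locally ringed spaces (for S9507).
Part 3: properties of the functional relation. -/

set_option autoImplicit false

universe u

open CategoryTheory TopologicalSpace Opposite AlgebraicGeometry

namespace Groth.Agent.H8.LRSFac

namespace Data

variable {Z X Y : LocallyRingedSpace.{u}} {i : Z ⟶ X} {f : Y ⟶ X} (D : Data i f)

theorem rel_unique {V : Opens Z.toTopCat} {t : Z.presheaf.obj (op V)}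
    {h h' : Y.presheaf.obj (op ((Opens.map D.gB).obj V))} (H : D.Rel V t h) (H' : D.Rel V t h') :
    h = h' := by
  classical
  choose W hzW hWV s hs hh using H
  choose W' hzW' hWV' s' hs' hh' using H'
  refine Y.sheaf.eq_of_locally_eq'
    (fun z : V => (Opens.map f.base).obj (W z z.2 ⊓ W' z z.2))
    ((Opens.map D.gB).obj V) (fun z => homOfLE ?_) ?_ h h' ?_
  · exact ((Opens.map f.base).monotone inf_le_left).trans (D.le_pre (hWV z z.2))
  · intro y hy
    rw [Opens.mem_iSup]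
    refine ⟨⟨D.gB y, hy⟩, ?_⟩
    show f.base y ∈ W _ _ ⊓ W' _ _
    rw [← D.hg y]
    exact ⟨hzW _ _, hzW' _ _⟩
  · intro z
    have e1 := congrArg (Y.presheaf.map (homOfLE ((Opens.map f.base).monotone
      (inf_le_left : W z z.2 ⊓ W' z z.2 ≤ W z z.2))).op) (hh z z.2)
    have e2 := congrArg (Y.presheaf.map (homOfLE ((Opens.map f.base).monotone
      (inf_le_right : W z z.2 ⊓ W' z z.2 ≤ W' z z.2))).op) (hh' z z.2)
    rw [res_res] at e1 e2
    refine e1.trans (Eq.trans ?_ e2.symm)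
    apply D.agree inf_le_left inf_le_right
    rw [hs, hs', res_res, res_res]

theorem rel_exists (V : Opens Z.toTopCat) (t : Z.presheaf.obj (op V)) :
    ∃ h, D.Rel V t h := by
  classical
  let ι := { p : Σ W : Opens X.toTopCat, X.presheaf.obj (op W) //
    ∃ hWV : (Opens.map i.base).obj p.1 ≤ V,
      i.c.app (op p.1) p.2 = Z.presheaf.map (homOfLE hWV).op t }
  have hle : ∀ p : ι, (Opens.map f.base).obj p.1.1 ≤ (Opens.map D.gB).obj V :=
    fun p => D.le_pre p.2.choose
  have hcover : (Opens.map D.gB).obj V ≤ iSup (fun p : ι => (Opens.map f.base).obj p.1.1) := by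
    intro y hy
    obtain ⟨W, hzW, hWV, s, hs⟩ := D.exists_lift V t (D.gB y) hy
    rw [Opens.mem_iSup]
    refine ⟨⟨⟨W, s⟩, hWV, hs⟩, ?_⟩
    show f.base y ∈ W
    rw [← D.hg y]
    exact hzW
  have hcompat : TopCat.Presheaf.IsCompatible Y.sheaf.1
      (fun p : ι => (Opens.map f.base).obj p.1.1) (fun p => f.c.app (op p.1.1) p.1.2) := by
    intro p q
    obtain ⟨hp, ep⟩ := p.2
    obtain ⟨hq, eq⟩ := q.2
    refine D.agree (inf_le_left : p.1.1 ⊓ q.1.1 ≤ p.1.1) inf_le_right p.1.2 q.1.2 ?_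
    rw [ep, eq, res_res, res_res]
  obtain ⟨h, hh, -⟩ := Y.sheaf.existsUnique_gluing' (fun p : ι => (Opens.map f.base).obj p.1.1)
    ((Opens.map D.gB).obj V) (fun p => homOfLE (hle p)) hcover
    (fun p => f.c.app (op p.1.1) p.1.2) hcompat
  refine ⟨h, fun z hz => ?_⟩
  obtain ⟨W, hzW, hWV, s, hs⟩ := D.exists_lift V t z hz
  exact ⟨W, hzW, hWV, s, hs, hh ⟨⟨W, s⟩, hWV, hs⟩⟩

theorem rel_add {V : Opens Z.toTopCat} {t t' : Z.presheaf.obj (op V)}
    {h h' : Y.presheaf.obj (op ((Opens.map D.gB).obj V))} (H : D.Rel V t h) (H' : D.Rel V t' h') :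
    D.Rel V (t + t') (h + h') := by
  intro z hz
  obtain ⟨W, hzW, hWV, s, hs, hh⟩ := H z hz
  obtain ⟨W', hzW', hWV', s', hs', hh'⟩ := H' z hz
  have l : W ⊓ W' ≤ W := inf_le_left
  have r : W ⊓ W' ≤ W' := inf_le_right
  refine ⟨W ⊓ W', ⟨hzW, hzW'⟩, ((Opens.map i.base).monotone l).trans hWV,
    X.presheaf.map (homOfLE l).op s + X.presheaf.map (homOfLE r).op s', ?_, ?_⟩
  · rw [map_add, map_add, nat_c i l s, nat_c i r s', hs, hs', res_res, res_res]
  · rw [map_add, map_add, nat_c f l s, nat_c f r s', ← hh, ← hh', res_res, res_res]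

theorem rel_mul {V : Opens Z.toTopCat} {t t' : Z.presheaf.obj (op V)}
    {h h' : Y.presheaf.obj (op ((Opens.map D.gB).obj V))} (H : D.Rel V t h) (H' : D.Rel V t' h') :
    D.Rel V (t * t') (h * h') := by
  intro z hz
  obtain ⟨W, hzW, hWV, s, hs, hh⟩ := H z hz
  obtain ⟨W', hzW', hWV', s', hs', hh'⟩ := H' z hz
  have l : W ⊓ W' ≤ W := inf_le_left
  have r : W ⊓ W' ≤ W' := inf_le_right
  refine ⟨W ⊓ W', ⟨hzW, hzW'⟩, ((Opens.map i.base).monotone l).trans hWV,
    X.presheaf.map (homOfLE l).op s * X.presheaf.map (homOfLE r).op s', ?_, ?_⟩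
  · rw [map_mul, map_mul, nat_c i l s, nat_c i r s', hs, hs', res_res, res_res]
  · rw [map_mul, map_mul, nat_c f l s, nat_c f r s', ← hh, ← hh', res_res, res_res]

theorem rel_one (V : Opens Z.toTopCat) : D.Rel V 1 1 := by
  intro z hz
  refine ⟨D.hull V, (D.mem_hull V z).2 hz, D.map_hull_le V, 1, ?_, ?_⟩
  · rw [map_one, map_one]
  · rw [map_one, map_one]

theorem rel_res {V V' : Opens Z.toTopCat} (hV : V' ≤ V) {t : Z.presheaf.obj (op V)}
    {h : Y.presheaf.obj (op ((Opens.map D.gB).obj V))} (H : D.Rel V t h) :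
    D.Rel V' (Z.presheaf.map (homOfLE hV).op t)
      (Y.presheaf.map (homOfLE ((Opens.map D.gB).monotone hV)).op h) := by
  intro z hz
  obtain ⟨W, hzW, hWV, s, hs, hh⟩ := H z (hV hz)
  have l : W ⊓ D.hull V' ≤ W := inf_le_left
  have hle : (Opens.map i.base).obj (W ⊓ D.hull V') ≤ V' :=
    ((Opens.map i.base).monotone inf_le_right).trans (D.map_hull_le V')
  refine ⟨W ⊓ D.hull V', ⟨hzW, (D.mem_hull V' z).2 hz⟩, hle,
    X.presheaf.map (homOfLE l).op s, ?_, ?_⟩
  · rw [nat_c i l s, hs, res_res, res_res]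
  · rw [nat_c f l s, ← hh, res_res, res_res]

theorem rel_of_lift (U : Opens X.toTopCat) (s : X.presheaf.obj (op U)) :
    D.Rel ((Opens.map i.base).obj U) (i.c.app (op U) s)
      (Y.presheaf.map (homOfLE (D.pre_le U)).op (f.c.app (op U) s)) := by
  intro z hz
  refine ⟨U, hz, le_rfl, s, ?_, ?_⟩
  · exact (res_self Z.presheaf _ _).symm
  · rw [res_res]
    exact res_self Y.presheaf _ _

end Data

end Groth.Agent.H8.LRSFac
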