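import Mathlib
import Groth.Agent.Lib.Helper8.LRSFac.Rel2

/-! helper8: factorisation through a closed immersion of locally ringed spaces (for S9507).
Part 4: the morphism. -/

set_option autoImplicit false

universe u

open CategoryTheory TopologicalSpace Opposite AlgebraicGeometry

namespace Groth.Agent.H8.LRSFac

/-- stalk maps of a closed immersion are surjective. -/
theorem stalk_surj {Z X : LocallyRingedSpace.{u}} (i : Z ⟶ X)
    (hemb : Topology.IsClosedEmbedding i.base)
    (hsurj : TopCat.Presheaf.IsLocallySurjective i.c) (z : Z.toTopCat) :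
    Function.Surjective (i.toHom.stalkMap z) := by
  have h1 := (TopCat.Presheaf.locally_surjective_iff_surjective_on_stalks i.c).1 hsurj (i.base z)
  haveI : IsIso (Z.presheaf.stalkPushforward CommRingCat i.base z) :=
    TopCat.Presheaf.stalkPushforward.stalkPushforward_iso_of_isInducing (C := CommRingCat)
      (hf := hemb.toIsEmbedding.toIsInducing) (F := Z.presheaf) (x := z)
  have h2 : Function.Bijective (Z.presheaf.stalkPushforward CommRingCat i.base z) :=
    ConcreteCategory.bijective_of_isIso _
  exact h2.surjective.comp h1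

/-- a closed immersion of locally ringed spaces is a monomorphism. -/
theorem mono_of {Z X : LocallyRingedSpace.{u}} (i : Z ⟶ X)
    (hemb : Topology.IsClosedEmbedding i.base)
    (hsurj : TopCat.Presheaf.IsLocallySurjective i.c) : Mono i := by
  haveI : Mono i.toShHom :=
    SheafedSpace.mono_of_base_injective_of_stalk_epi i.toShHom hemb.injective
      (fun z => ConcreteCategory.epi_of_surjective _ (stalk_surj i hemb hsurj z))
  constructor
  intro W a b e
  apply LocallyRingedSpace.Hom.ext'
  have e' : a.toShHom ≫ i.toShHom = b.toShHom ≫ i.toShHom := by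
    rw [← LocallyRingedSpace.comp_toShHom, ← LocallyRingedSpace.comp_toShHom, e]
  have := (cancel_mono i.toShHom).1 e'
  exact congrArg InducedCategory.Hom.hom this

namespace Data

variable {Z X Y : LocallyRingedSpace.{u}} {i : Z ⟶ X} {f : Y ⟶ X} (D : Data i f)

/-- the comorphism on sections. -/
noncomputable def cFun (V : Opens Z.toTopCat) (t : Z.presheaf.obj (op V)) :
    Y.presheaf.obj (op ((Opens.map D.gB).obj V)) := (D.rel_exists V t).choose

theorem cFun_spec (V : Opens Z.toTopCat) (t : Z.presheaf.obj (op V)) :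
    D.Rel V t (D.cFun V t) := (D.rel_exists V t).choose_spec

theorem cFun_eq {V : Opens Z.toTopCat} {t : Z.presheaf.obj (op V)}
    {h : Y.presheaf.obj (op ((Opens.map D.gB).obj V))} (H : D.Rel V t h) : D.cFun V t = h :=
  D.rel_unique (D.cFun_spec V t) H

noncomputable def cHom (V : Opens Z.toTopCat) :
    Z.presheaf.obj (op V) ⟶ Y.presheaf.obj (op ((Opens.map D.gB).obj V)) :=
  CommRingCat.ofHom
    { toFun := D.cFun V
      map_one' := D.cFun_eq (D.rel_one V)
      map_mul' := fun t t' => D.cFun_eq (D.rel_mul (D.cFun_spec V t) (D.cFun_spec V t'))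
      map_zero' := by
        have h := D.cFun_eq (D.rel_add (D.cFun_spec V 0) (D.cFun_spec V 0))
        rw [add_zero] at h
        simpa using h
      map_add' := fun t t' => D.cFun_eq (D.rel_add (D.cFun_spec V t) (D.cFun_spec V t')) }

theorem cHom_apply (V : Opens Z.toTopCat) (t : Z.presheaf.obj (op V)) :
    D.cHom V t = D.cFun V t := rfl

noncomputable def cNat : Z.presheaf ⟶ D.gB _* Y.presheaf where
  app V := D.cHom V.unop
  naturality := by
    intro V V' φ
    ext t
    exact D.cFun_eq (D.rel_res (leOfHom φ.unop) (D.cFun_spec V.unop t))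

noncomputable def gP : Y.toPresheafedSpace ⟶ Z.toPresheafedSpace :=
  { base := D.gB, c := D.cNat }

theorem gP_comp : D.gP ≫ i.toHom = f.toHom := by
  have hb : (D.gP ≫ i.toHom).base = f.toHom.base := by
    ext y
    exact D.hg y
  refine PresheafedSpace.ext _ _ hb ?_
  ext U s
  have key := D.cFun_eq (D.rel_of_lift U s)
  show Y.presheaf.map _ (D.cFun _ (i.c.app (op U) s)) = f.c.app (op U) s
  rw [key, ← CommRingCat.comp_apply, ← Y.presheaf.map_comp]
  have hm : ∀ (A : (Opens Y.toTopCat)ᵒᵖ) (m : A ⟶ A) (x : Y.presheaf.obj A),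
      Y.presheaf.map m x = x := by
    intro A m x
    have : m = 𝟙 A := Subsingleton.elim _ _
    rw [this, Y.presheaf.map_id]
    rfl
  exact hm _ _ _

theorem gP_isLocalHom (y : Y.toTopCat) : IsLocalHom (D.gP.stalkMap y).hom := by
  have hloc : IsLocalHom ((D.gP ≫ i.toHom).stalkMap y).hom := by
    rw [PresheafedSpace.stalkMap.congr_hom (D.gP ≫ i.toHom) f.toHom D.gP_comp y]
    infer_instance
  rw [PresheafedSpace.stalkMap.comp] at hloc
  constructor
  intro a ha
  obtain ⟨b, rfl⟩ := stalk_surj i D.hemb D.hsurj (D.gP.base y) a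
  have hb : IsUnit b := hloc.map_nonunit b ha
  exact hb.map _

/-- the factorisation. -/
noncomputable def g : Y ⟶ Z := ⟨D.gP, D.gP_isLocalHom⟩

theorem g_comp : D.g ≫ i = f := LocallyRingedSpace.Hom.ext' D.gP_comp

end Data

end Groth.Agent.H8.LRSFac
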